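import Cfsg.Prelude.Def_RootSubgroups
import Cfsg.Agent.Lib.Involution.Dihedral

/-!
Calculus of root involutions: a pair `a, e` with `a e = e a ∈ D` and a member with product of odd
order with one of the three.
-/

set_option autoImplicit false

namespace Cfsg.Agent.RootInv

open Cfsg

variable {G : Type*} [Group G] {D : Set G}

theorem eq_one_of_odd {x : G} (h : Odd (orderOf x)) {j : ℕ} (hx : x ^ (2 ^ j) = 1) : x = 1 := by
  have hc : Nat.Coprime (orderOf x) (2 ^ j) :=
    Nat.Coprime.pow_right j (Nat.coprime_two_right.2 h)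
  rw [← orderOf_eq_one_iff]
  exact Nat.eq_one_of_dvd_coprimes hc dvd_rfl (orderOf_dvd_of_pow_eq_one hx)

theorem orderOf_mul_comm (x y : G) : orderOf (x * y) = orderOf (y * x) := by
  have : SemiconjBy x (y * x) (x * y) := by simp [SemiconjBy, mul_assoc]
  exact (SemiconjBy.orderOf_eq x this).symm

theorem orderOf_conj (g x : G) : orderOf (g * x * g⁻¹) = orderOf x :=
  orderOf_injective (MulAut.conj g).toMonoidHom (MulAut.conj g).injective x

section

variable (hD : IsRootInvolutionSet D)
include hD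

theorem sq {a : G} (ha : a ∈ D) : a * a = 1 :=
  Involution.sq_of_orderOf_two (hD.orderOf_eq a ha)

theorem inv_eq {a : G} (ha : a ∈ D) : a⁻¹ = a :=
  Involution.inv_of_orderOf_two (hD.orderOf_eq a ha)

theorem ne_one {a : G} (ha : a ∈ D) : a ≠ 1 := fun h => by
  have := hD.orderOf_eq a ha
  rw [h, orderOf_one] at this
  omega

theorem cancel {a : G} (ha : a ∈ D) (x : G) : a * (a * x) = x := by
  rw [← mul_assoc, sq hD ha, one_mul]

theorem conj_mem {a b : G} (ha : a ∈ D) (hb : b ∈ D) : a * b * a ∈ D := by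
  have := hD.conj_mem b hb a
  rwa [inv_eq hD ha] at this

theorem conj_of_commute {a b : G} (ha : a ∈ D) (h : Commute a b) : a * b * a = b := by
  rw [h.eq, mul_assoc, sq hD ha, mul_one]

theorem commute_of_conj {a b : G} (ha : a ∈ D) (h : a * b * a = b) : Commute a b :=
  calc a * b = a * b * a * a := by rw [mul_assoc _ a a, sq hD ha, mul_one]
    _ = b * a := by rw [h]

theorem adj_symm {a b : G} (h : OddAdj D a b) : OddAdj D b a :=
  ⟨h.2.1, h.1, h.2.2.1.symm, orderOf_mul_comm a b ▸ h.2.2.2⟩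

theorem adj_conj (g : G) {a b : G} (h : OddAdj D a b) :
    OddAdj D (g * a * g⁻¹) (g * b * g⁻¹) := by
  refine ⟨hD.conj_mem a h.1 g, hD.conj_mem b h.2.1 g,
    fun e => h.2.2.1 (mul_left_cancel (mul_right_cancel e)), ?_⟩
  rw [show g * a * g⁻¹ * (g * b * g⁻¹) = g * (a * b) * g⁻¹ by group, orderOf_conj]
  exact h.2.2.2

theorem mul_pow_two_of_commute {a b : G} (ha : a ∈ D) (hb : b ∈ D) (h : Commute a b) :
    (a * b) ^ 2 = 1 := by
  rw [h.mul_pow, pow_two, pow_two, sq hD ha, sq hD hb, one_mul]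

theorem not_commute_of_adj {a b : G} (h : OddAdj D a b) : ¬Commute a b := by
  intro hc
  have h1 := eq_one_of_odd h.2.2.2 (j := 1) (mul_pow_two_of_commute hD h.1 h.2.1 hc)
  rw [mul_eq_one_iff_eq_inv, inv_eq hD h.2.1] at h1
  exact h.2.2.1 h1

theorem not_adj_of_four {a b : G} (h : orderOf (a * b) = 4) : ¬OddAdj D a b := by
  intro k
  have := k.2.2.2
  rw [h] at this
  exact absurd this (by decide)

theorem not_commute_of_four {a b : G} (ha : a ∈ D) (hb : b ∈ D) (h : orderOf (a * b) = 4) :
    ¬Commute a b := fun hc => by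
  have := orderOf_dvd_of_pow_eq_one (mul_pow_two_of_commute hD ha hb hc)
  rw [h] at this
  norm_num at this

/-- The three possibilities for a pair. -/
theorem cases3 {a b : G} (ha : a ∈ D) (hb : b ∈ D) :
    Commute a b ∨ OddAdj D a b ∨ orderOf (a * b) = 4 := by
  by_cases hab : a = b
  · exact Or.inl (hab ▸ Commute.refl a)
  rcases hD.pair a ha b hb with h | h | h
  · exact Or.inl h
  · exact Or.inr (Or.inl ⟨ha, hb, hab, h⟩)
  · exact Or.inr (Or.inr h.1)

theorem pow_four_of_not_adj {a b : G} (ha : a ∈ D) (hb : b ∈ D) (h : ¬OddAdj D a b) :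
    (a * b) ^ 4 = 1 := by
  rcases cases3 hD ha hb with hc | hc | hc
  · rw [show (4 : ℕ) = 2 * 2 from rfl, pow_mul, mul_pow_two_of_commute hD ha hb hc, one_pow]
  · exact absurd hc h
  · rw [← hc, pow_orderOf_eq_one]

/-- The member attached to a pair with product of order four. -/
theorem four_facts {a b : G} (ha : a ∈ D) (hb : b ∈ D) (h : orderOf (a * b) = 4) :
    (a * b) ^ 2 ∈ D ∧ Commute a ((a * b) ^ 2) ∧ Commute b ((a * b) ^ 2) ∧
      a * b * a = b * (a * b) ^ 2 ∧ b * a * b = a * (a * b) ^ 2 ∧ (a * b) ^ 2 ≠ b := by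
  have hmem : (a * b) ^ 2 ∈ D := by
    rcases hD.pair a ha b hb with k | k | k
    · exact absurd k (not_commute_of_four hD ha hb h)
    · rw [h] at k; exact absurd k (by decide)
    · exact k.2
  have h4 : (a * b) ^ 4 = 1 := by rw [← h, pow_orderOf_eq_one]
  have hz : (a * b) ^ 2 = b * a * (b * a) := by
    have : (a * b) ^ 2 * (a * b) ^ 2 = 1 := by rw [← pow_add]; exact h4
    rw [← inv_eq_of_mul_eq_one_right this, pow_two, mul_inv_rev, mul_inv_rev, inv_eq hD ha,
      inv_eq hD hb]
  have e1 : b * (a * b) ^ 2 = a * b * a := by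
    rw [hz]; simp only [mul_assoc, cancel hD hb]
  have e2 : a * (a * b) ^ 2 = b * a * b := by
    rw [pow_two]; simp only [mul_assoc, cancel hD ha]
  have e3 : (a * b) ^ 2 * a = a * (a * b) ^ 2 := by
    rw [e2, hz]; simp only [mul_assoc, sq hD ha, mul_one]
  have e4 : (a * b) ^ 2 * b = b * (a * b) ^ 2 := by
    rw [e1, pow_two]; simp only [mul_assoc, sq hD hb, mul_one]
  refine ⟨hmem, e3.symm, e4.symm, e1.symm, e2.symm, fun e => ?_⟩
  rw [e, sq hD hb] at e1
  exact ne_one hD (conj_mem hD ha hb) e1.symm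

end

/-- `a` and `e` are different, commute, and their product is in `D`. -/
def PP (D : Set G) (a e : G) : Prop := a ∈ D ∧ e ∈ D ∧ e ≠ a ∧ Commute a e ∧ a * e ∈ D

theorem PP.symm {a e : G} (h : PP D a e) : PP D e a :=
  ⟨h.2.1, h.1, h.2.2.1.symm, h.2.2.2.1.symm, h.2.2.2.1.eq ▸ h.2.2.2.2⟩

section

variable (hD : IsRootInvolutionSet D)
include hD

theorem PP.third {a e : G} (h : PP D a e) : PP D a (a * e) := by
  refine ⟨h.1, h.2.2.2.2, fun k => ?_, (Commute.refl a).mul_right h.2.2.2.1, ?_⟩
  · exact ne_one hD h.2.1 (mul_eq_left.1 k)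
  · rw [cancel hD h.1]; exact h.2.1

theorem pp_of_four {a b : G} (ha : a ∈ D) (hb : b ∈ D) (h : orderOf (a * b) = 4) :
    PP D b ((a * b) ^ 2) := by
  obtain ⟨h1, -, h3, h4, -, h6⟩ := four_facts hD ha hb h
  exact ⟨hb, h1, h6, h3, h4 ▸ conj_mem hD ha hb⟩

/-- A member with product of odd order with `a` commutes neither with `e` nor with `a e`. -/
theorem not_commute_of_pp {a e k : G} (h : PP D a e) (hk : OddAdj D a k) : ¬Commute e k := by
  intro hc
  obtain ⟨ha, he, -, hae, hf⟩ := h
  have hec : Commute e (a * k) := hae.symm.mul_right hc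
  have hx : ∀ n : ℕ, (a * e * k) ^ n = e ^ n * (a * k) ^ n := fun n => by
    rw [hae.eq, mul_assoc, hec.mul_pow]
  have hne : a * k ≠ 1 := fun h1 => hk.2.2.1 (by
    rwa [mul_eq_one_iff_eq_inv, inv_eq hD hk.2.1] at h1)
  have he2 : e ^ 2 = 1 := by rw [pow_two, sq hD he]
  rcases cases3 hD hf hk.2.1 with h1 | h1 | h1
  · have := mul_pow_two_of_commute hD hf hk.2.1 h1
    rw [hx, he2, one_mul] at this
    exact hne (eq_one_of_odd hk.2.2.2 (j := 1) this)
  · obtain ⟨i, hi⟩ := h1.2.2.2
    have := pow_orderOf_eq_one (a * e * k)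
    rw [hi, hx, pow_succ, pow_mul, he2, one_pow, one_mul] at this
    have h2 : ((a * k) ^ (2 * i + 1)) ^ (2 ^ 1) = 1 := by
      rw [← inv_eq_of_mul_eq_one_right this, inv_eq hD he, pow_one, he2]
    have h3 : (a * k) ^ (2 * i + 1) = 1 := eq_one_of_odd
      (Odd.of_dvd_nat hk.2.2.2 (orderOf_pow_dvd _)) h2
    rw [h3, mul_one] at this
    exact ne_one hD he this
  · have := pow_orderOf_eq_one (a * e * k)
    rw [h1, hx, show (4 : ℕ) = 2 * 2 from rfl, pow_mul, he2, one_pow, one_mul] at this
    exact hne (eq_one_of_odd hk.2.2.2 (j := 2) this)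

/-- If `a e = e a ∈ D`, a member with product of odd order with `a` has such a product with `e`
or with `a e`. -/
theorem adj_or_adj {a e k : G} (h : PP D a e) (hk : OddAdj D a k) :
    OddAdj D e k ∨ OddAdj D (a * e) k := by
  by_contra hcon
  rw [not_or] at hcon
  obtain ⟨ha, he, hnea, hae, hf⟩ := h
  have hkD := hk.2.1
  have four : ∀ u ∈ D, ¬Commute u k → ¬OddAdj D u k → Commute u (k * u * k) := by
    intro u hu h1 h2
    have h4 : orderOf (k * u) = 4 := by
      rw [orderOf_mul_comm]
      exact ((cases3 hD hu hkD).resolve_left h1).resolve_left h2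
    obtain ⟨-, -, h5, h6, -, -⟩ := four_facts hD hkD hu h4
    rw [h6]
    exact (Commute.refl u).mul_right h5
  set f := a * e with hfdef
  have hee : Commute e (k * e * k) :=
    four e he (not_commute_of_pp hD ⟨ha, he, hnea, hae, hf⟩ hk) hcon.1
  have hff : Commute f (k * f * k) :=
    four f hf (not_commute_of_pp hD (PP.third hD ⟨ha, he, hnea, hae, hf⟩) hk) hcon.2
  have hef : Commute e f := hae.symm.mul_right (Commute.refl e)
  have hef' : Commute (k * e * k) (k * f * k) := by
    have := hef.conj k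
    rwa [inv_eq hD hkD] at this
  set e' := k * e * k with he'
  set f' := k * f * k with hf'
  have hkk : k * a * k = e' * f' := by
    rw [he', hf', hfdef, hae.eq]
    simp only [mul_assoc, cancel hD hkD, cancel hD he]
  have hx : Commute e' (e * f') := hee.symm.mul_right hef'
  have h4 : (e * f') ^ 4 = 1 := by
    have ee : e * (k * a * k) = e' * (e * f') := by
      rw [hkk, ← mul_assoc, hee.eq, mul_assoc]
    have he'2 : e' ^ 2 = 1 := by rw [pow_two]; exact sq hD (conj_mem hD hkD he)
    by_contra hne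
    rcases cases3 hD he (conj_mem hD hkD ha) with h1 | h1 | h1
    · have := mul_pow_two_of_commute hD he (conj_mem hD hkD ha) h1
      rw [ee, hx.mul_pow, he'2, one_mul] at this
      exact hne (by rw [show (4 : ℕ) = 2 * 2 from rfl, pow_mul, this, one_pow])
    · have hodd : Odd (orderOf (e * f')) := by
        rcases cases3 hD he (conj_mem hD hkD hf) with h2 | h2 | h2
        · exact absurd (by rw [show (4 : ℕ) = 2 * 2 from rfl, pow_mul,
            mul_pow_two_of_commute hD he (conj_mem hD hkD hf) h2, one_pow]) hne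
        · exact h2.2.2.2
        · exact absurd (by rw [← h2]; exact pow_orderOf_eq_one _) hne
      obtain ⟨i, hi⟩ := h1.2.2.2
      have := pow_orderOf_eq_one (e * (k * a * k))
      rw [hi, ee, hx.mul_pow, pow_succ, pow_mul, he'2, one_pow, one_mul] at this
      have h2 : ((e * f') ^ (2 * i + 1)) ^ (2 ^ 1) = 1 := by
        rw [← inv_eq_of_mul_eq_one_right this, inv_eq hD (conj_mem hD hkD he), pow_one, he'2]
      rw [eq_one_of_odd (Odd.of_dvd_nat hodd (orderOf_pow_dvd _)) h2, mul_one] at this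
      exact ne_one hD (conj_mem hD hkD he) this
    · have := pow_orderOf_eq_one (e * (k * a * k))
      rw [h1, ee, hx.mul_pow, show (4 : ℕ) = 2 * 2 from rfl, pow_mul e', he'2, one_pow,
        one_mul] at this
      exact hne this
  have hy4 : (f * e') ^ 4 = 1 := by
    have e1 : k * (e * f') * k = e' * f := by
      rw [he', hf']; simp only [mul_assoc, sq hD hkD, mul_one]
    have e2 : (e' * f) ^ 4 = 1 := by
      have := (conj_pow (i := 4) (a := k) (b := e * f'))
      rw [h4, mul_one, mul_inv_cancel, inv_eq hD hkD, e1] at this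
      exact this
    have e3 : f * e' = (e' * f)⁻¹ := by
      rw [mul_inv_rev, inv_eq hD hf, inv_eq hD (conj_mem hD hkD he)]
    rw [e3, inv_pow, e2, inv_one]
  have hcomm : Commute (f * e') (e * f') := by
    refine Commute.mul_left (Commute.mul_right hef.symm hff) (Commute.mul_right hee.symm hef')
  have hr : (a * k) ^ 2 = f * e' * (e * f') := by
    have : (a * k) ^ 2 = e * f * (e' * f') := by
      rw [← hkk, show e * f = a by rw [hfdef, hae.eq, ← mul_assoc, sq hD he, one_mul], pow_two]
      simp only [mul_assoc]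
    rw [this, hef.eq]
    calc f * e * (e' * f') = f * (e * e') * f' := by simp only [mul_assoc]
      _ = f * e' * (e * f') := by rw [hee.eq]; simp only [mul_assoc]
  have h8 : (a * k) ^ (2 ^ 3) = 1 := by
    rw [show (2 : ℕ) ^ 3 = 2 * 4 from rfl, pow_mul, hr, hcomm.mul_pow, hy4, h4, one_mul]
  have := eq_one_of_odd hk.2.2.2 h8
  rw [mul_eq_one_iff_eq_inv, inv_eq hD hkD] at this
  exact hk.2.2.1 this

end

end Cfsg.Agent.RootInv
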