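import Cfsg.Agent.Lib.RootInv.Orbit
import Cfsg.Agent.Lib.Involution.BaerSuzuki

/-!
Root involutions with connected odd-product graph: members with the same odd partners commute
and have the same commuting members.
-/

set_option autoImplicit false

namespace Cfsg.Agent.RootInv

open Cfsg
open scoped commutatorElement

variable {G : Type*} [Group G] {D : Set G}

theorem mem_odd {a b : G} (ha : a ∈ D) : b ∈ oddPartners D a ↔ OddAdj D a b :=
  ⟨fun h => ⟨ha, h.1, h.2.1.symm, h.2.2⟩, fun h => ⟨h.2.1, h.2.2.1.symm, h.2.2.2⟩⟩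

section

variable (hD : IsRootInvolutionSet D)
include hD

theorem adj_of_eq {a b w : G} (ha : a ∈ D) (hb : b ∈ D)
    (h : oddPartners D a = oddPartners D b) (hw : OddAdj D a w) : OddAdj D b w :=
  (mem_odd hb).1 (h ▸ (mem_odd ha).2 hw)

theorem adj_conj_back {g a w : G} (h : OddAdj D (g * a * g⁻¹) w) :
    OddAdj D a (g⁻¹ * w * g) := by
  have := adj_conj hD g⁻¹ h
  simpa [mul_assoc] using this

theorem oddPartners_conj_eq (g : G) {a b : G} (ha : a ∈ D) (hb : b ∈ D)
    (h : oddPartners D a = oddPartners D b) :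
    oddPartners D (g * a * g⁻¹) = oddPartners D (g * b * g⁻¹) := by
  ext w
  rw [mem_odd (hD.conj_mem a ha g), mem_odd (hD.conj_mem b hb g)]
  constructor <;> intro k
  · have := adj_conj hD g (adj_of_eq hD ha hb h (adj_conj_back hD k))
    simpa [mul_assoc] using this
  · have := adj_conj hD g (adj_of_eq hD hb ha h.symm (adj_conj_back hD k))
    simpa [mul_assoc] using this

theorem exists_conj_of_adj {a b : G} (h : OddAdj D a b) : ∃ g : G, g * a * g⁻¹ = b := by
  obtain ⟨g, -, e⟩ := Involution.exists_conj_pair_of_odd (sq hD h.1) (sq hD h.2.1) h.2.2.2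
  exact ⟨g, e⟩

variable (hc : IsConnectedSet (OddAdj D) D)
include hc

theorem exists_conj {a b : G} (ha : a ∈ D) (hb : b ∈ D) : ∃ g : G, g * a * g⁻¹ = b := by
  have h := hc a ha b hb
  induction h with
  | refl => exact ⟨1, by simp⟩
  | tail _ hs ih =>
    obtain ⟨g, hg⟩ := ih hs.1
    obtain ⟨k, hk⟩ := exists_conj_of_adj hD hs
    exact ⟨k * g, by rw [← hk, ← hg]; group⟩

variable [Finite G]

theorem ncard_oddPartners {a b : G} (ha : a ∈ D) (hb : b ∈ D) :
    (oddPartners D a).ncard = (oddPartners D b).ncard := by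
  have key : ∀ {u v : G}, u ∈ D → v ∈ D → (oddPartners D u).ncard ≤ (oddPartners D v).ncard := by
    intro u v hu hv
    obtain ⟨g, rfl⟩ := exists_conj hD hc hu hv
    refine Set.ncard_le_ncard_of_injOn (fun w => g * w * g⁻¹) (fun w hw => ?_)
      (fun p _ q _ e => mul_left_cancel (mul_right_cancel e)) (Set.toFinite _)
    exact (mem_odd hv).2 (adj_conj hD g ((mem_odd hu).1 hw))
  exact le_antisymm (key ha hb) (key hb ha)

theorem oddPartners_eq_of_subset {a b : G} (ha : a ∈ D) (hb : b ∈ D)
    (h : oddPartners D a ⊆ oddPartners D b) : oddPartners D a = oddPartners D b :=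
  Set.eq_of_subset_of_ncard_le h (ncard_oddPartners hD hc hb ha).le (Set.toFinite _)

theorem exists_adj {b f : G} (hb : b ∈ D) (hf : f ∈ D) (hne : f ≠ b) : ∃ w, OddAdj D b w := by
  rcases Relation.ReflTransGen.cases_head (hc b hb f hf) with h | ⟨w, hw, -⟩
  · exact absurd h.symm hne
  · exact ⟨w, hw⟩

/-- For `f, b` with product of order four and equal odd partners of `b` and `f b f`, also the square
has these partners. -/
theorem square_partners {b f : G} (hb : b ∈ D) (hf : f ∈ D) (h4 : orderOf (f * b) = 4)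
    (h : oddPartners D (f * b * f) = oddPartners D b) :
    oddPartners D ((f * b) ^ 2) = oddPartners D b := by
  obtain ⟨hz, -, hbz, hconj, -, -⟩ := four_facts hD hf hb h4
  refine oddPartners_eq_of_subset hD hc hz hb fun w hw => ?_
  rcases adj_or_adj hD (pp_of_four hD hf hb h4).symm ((mem_odd hz).1 hw) with k | k
  · exact (mem_odd hb).2 k
  · rw [← hbz.eq, ← hconj] at k
    exact (mem_odd hb).2 (adj_of_eq hD (conj_mem hD hf hb) hb h k)

/-- Members with the same odd partners commute. -/
theorem commute_of_oddPartners_eq {b f : G} (hb : b ∈ D) (hf : f ∈ D)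
    (h : oddPartners D b = oddPartners D f) : Commute b f := by
  by_contra hbf
  have hne : f ≠ b := fun e => hbf (e ▸ Commute.refl b)
  have hnadj : ∀ {u v : G}, u ∈ D → v ∈ D → oddPartners D u = oddPartners D v →
      ¬OddAdj D u v := fun hu hv e k => ((adj_of_eq hD hu hv e k).2.2.1) rfl
  have h4 : orderOf (f * b) = 4 := by
    rw [orderOf_mul_comm]
    exact ((cases3 hD hb hf).resolve_left hbf).resolve_left (hnadj hb hf h)
  obtain ⟨hz, -, -, -, -, -⟩ := four_facts hD hf hb h4
  have hA : oddPartners D (f * b * f) = oddPartners D b := by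
    have := oddPartners_conj_eq hD f hb hf h
    rw [inv_eq hD hf, sq hD hf, one_mul] at this
    exact this.trans h.symm
  have hzA := square_partners hD hc hb hf h4 hA
  let U : Set G := {u | u ∈ D ∧ oddPartners D u = oddPartners D b}
  have hbU : b ∈ U := ⟨hb, rfl⟩
  have hfU : f ∈ U := ⟨hf, h.symm⟩
  have hUU : ∀ u ∈ U, ∀ v ∈ U, ¬OddAdj D u v := fun u hu v hv =>
    hnadj hu.1 hv.1 (hu.2.trans hv.2.symm)
  have hmaps : ∀ g : G, g * b * g⁻¹ ∈ U → ∀ u ∈ U, g * u * g⁻¹ ∈ U := fun g hg u hu =>
    ⟨hD.conj_mem u hu.1 g, (oddPartners_conj_eq hD g hu.1 hb hu.2).trans hg.2⟩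
  let N : Subgroup G :=
    { carrier := {g | g * b * g⁻¹ ∈ U ∧ g⁻¹ * b * g⁻¹⁻¹ ∈ U}
      one_mem' := ⟨by simpa using hbU, by simpa using hbU⟩
      mul_mem' := fun {g k} hg hk => by
        have h1 := hmaps g hg.1 _ hk.1
        have h2 := hmaps k⁻¹ hk.2 _ hg.2
        exact ⟨by simpa [mul_assoc] using h1, by simpa [mul_assoc] using h2⟩
      inv_mem' := fun {g} hg => ⟨hg.2, by simpa using hg.1⟩ }
  have hNU : ∀ g ∈ N, ∀ u ∈ U, g * u * g⁻¹ ∈ U := fun g hg => hmaps g hg.1
  have hUN : ∀ u ∈ U, u ∈ N := by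
    intro u hu
    have h1 : u * b * u⁻¹ ∈ U := ⟨hD.conj_mem b hb u, by
      have h1 := oddPartners_conj_eq hD u hb hu.1 hu.2.symm
      rw [mul_inv_cancel_right] at h1
      exact h1.trans hu.2⟩
    have hi := inv_eq hD hu.1
    exact ⟨h1, by rw [hi]; exact h1⟩
  set Q := Subgroup.closure U with hQ
  have hQ2 : IsPGroup 2 Q := by
    have hC := Involution.baer_suzuki_set (p := 2) (G := N) {u : N | (u : G) ∈ U}
      (fun g u hu => by
        have := hNU g g.2 u hu
        simpa using this)
      (fun u hu v hv => by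
        refine Involution.isPGroup_closure_pair (a := 2) (Subtype.ext (sq hD hu.1))
          (Subtype.ext (sq hD hv.1)) (Subtype.ext ?_)
        have := pow_four_of_not_adj hD hu.1 hv.1 (hUU _ hu _ hv)
        simpa using this)
    refine (hC.map N.subtype).to_le ((Subgroup.closure_le _).2 fun u hu => ?_)
    exact ⟨⟨u, hUN u hu⟩, Subgroup.subset_closure (show u ∈ U from hu), rfl⟩
  have hzQ : (f * b) ^ 2 ∈ ⁅Q, Q⁆ := by
    have e : (f * b) ^ 2 = ⁅f, b⁆ := by
      rw [commutatorElement_def, inv_eq hD hf, inv_eq hD hb, pow_two]; simp only [mul_assoc]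
    rw [e]
    exact Subgroup.commutator_mem_commutator (Subgroup.subset_closure hfU)
      (Subgroup.subset_closure hbU)
  obtain ⟨w, hw⟩ := exists_adj hD hc hb hf hne
  have hle : Q ≤ ⁅Q, Q⁆ := by
    refine (Subgroup.closure_le _).2 fun u hu => ?_
    obtain ⟨g₁, hg₁⟩ := exists_conj_of_adj hD (adj_of_eq hD hb hz hzA.symm hw)
    obtain ⟨g₂, hg₂⟩ := exists_conj_of_adj hD (adj_of_eq hD hb hu.1 hu.2.symm hw)
    set g := g₂⁻¹ * g₁ with hg
    have hgz : g * (f * b) ^ 2 * g⁻¹ = u := by
      rw [hg, show g₂⁻¹ * g₁ * (f * b) ^ 2 * (g₂⁻¹ * g₁)⁻¹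
        = g₂⁻¹ * (g₁ * (f * b) ^ 2 * g₁⁻¹) * g₂ by group, hg₁, ← hg₂]
      group
    have hgiz : g⁻¹ * u * g⁻¹⁻¹ = (f * b) ^ 2 := by rw [← hgz]; group
    have hgN : g ∈ N := by
      constructor
      · refine ⟨hD.conj_mem b hb g, ?_⟩
        rw [oddPartners_conj_eq hD g hb hz hzA.symm, hgz, hu.2]
      · refine ⟨hD.conj_mem b hb g⁻¹, ?_⟩
        rw [oddPartners_conj_eq hD g⁻¹ hb hu.1 hu.2.symm, hgiz, hzA]
    have hmap : Q.map (MulAut.conj g).toMonoidHom ≤ Q := by
      rw [hQ, MonoidHom.map_closure]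
      refine Subgroup.closure_mono ?_
      rintro _ ⟨v, hv, rfl⟩
      simpa [MulAut.conj_apply] using hNU g hgN v hv
    have := Subgroup.mem_map_of_mem (MulAut.conj g).toMonoidHom hzQ
    rw [Subgroup.map_commutator] at this
    refine Subgroup.commutator_mono hmap hmap ?_
    simpa [MulAut.conj_apply, hgz] using this
  have hQne : Q ≠ ⊥ := fun e =>
    ne_one hD hb (Subgroup.mem_bot.1 (e ▸ Subgroup.subset_closure hbU))
  have : Group.IsNilpotent Q := hQ2.isNilpotent
  have : Nontrivial Q := (Subgroup.nontrivial_iff_ne_bot Q).2 hQne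
  refine (Group.IsSolvable.commutator_lt_top_of_nontrivial (G := Q)).ne ?_
  rw [← Subgroup.map_subtype_inj, Subgroup.map_subtype_commutator, ← MonoidHom.range_eq_map,
    Subgroup.range_subtype]
  exact le_antisymm Q.commutator_le_self hle

/-- Members with the same odd partners commute with the same members. -/
theorem commute_of_commute_of_oddPartners_eq {a b f : G} (ha : a ∈ D) (hb : b ∈ D) (hf : f ∈ D)
    (h : oddPartners D a = oddPartners D b) (haf : Commute a f) : Commute b f := by
  by_contra hbf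
  have hnbf : ¬OddAdj D b f := fun k => not_commute_of_adj hD (adj_of_eq hD hb ha h.symm k) haf
  have h4 : orderOf (f * b) = 4 := by
    rw [orderOf_mul_comm]
    exact ((cases3 hD hb hf).resolve_left hbf).resolve_left hnbf
  obtain ⟨hz, hfz, hbz, hconj, -, -⟩ := four_facts hD hf hb h4
  set z := (f * b) ^ 2 with hzdef
  have hzA : oddPartners D z = oddPartners D b := by
    refine square_partners hD hc hb hf h4 ?_
    have := oddPartners_conj_eq hD f ha hb h
    rw [inv_eq hD hf, conj_of_commute hD hf haf.symm] at this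
    exact this.symm.trans h
  have hppz : PP D z f := by
    obtain ⟨-, -, -, -, hconj', -⟩ := four_facts hD hf hb h4
    refine ⟨hz, hf, fun e => hbf (e ▸ hbz), hfz.symm, ?_⟩
    rw [← hfz.eq, ← hconj']
    exact conj_mem hD hb hf
  have hsub : oddPartners D b ⊆ oddPartners D f := by
    intro w hw
    have hzw : OddAdj D z w := adj_of_eq hD hb hz hzA.symm ((mem_odd hb).1 hw)
    rcases cases3 hD hf hw.1 with k | k | k
    · exact absurd k (not_commute_of_pp hD hppz hzw)
    · exact (mem_odd hf).2 k
    · exfalso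
      rw [orderOf_mul_comm] at k
      obtain ⟨z', hz'D, h4', hsq, hfz'⟩ := exists_four_sq hD hppz hzw k
      obtain ⟨-, -, -, hzc, hzc', -⟩ := four_facts hD hz hz'D h4'
      rw [hsq] at hzc'
      by_cases hcb : Commute b z'
      · have hb2 : Commute b ((z * z') ^ 2) := (hbz.mul_right hcb).pow_right 2
        rw [hsq] at hb2
        exact hbf hb2
      · have hnb : ¬OddAdj D b z' := fun k' =>
          not_adj_of_four hD h4' (adj_of_eq hD hb hz hzA.symm k')
        have h4b : (b * z') ^ 4 = 1 := pow_four_of_not_adj hD hb hz'D hnb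
        set g := b * z' with hg
        have hgi : g⁻¹ = z' * b := by rw [hg, mul_inv_rev, inv_eq hD hz'D, inv_eq hD hb]
        have hbfb : b * f * b = f * z := (four_facts hD hf hb h4).2.2.2.2.1
        have g1 : g * z * g⁻¹ = f := by
          rw [hgi, hg, show b * z' * z * (z' * b) = b * (z' * z * z') * b by
            simp only [mul_assoc], hzc']
          calc b * (z * f) * b = (b * z * b) * (b * f * b) := by
                simp only [mul_assoc, cancel hD hb]
            _ = z * (f * z) := by rw [conj_of_commute hD hb hbz, hbfb]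
            _ = f := by rw [← mul_assoc, hfz.symm.eq, mul_assoc, sq hD hz, mul_one]
        have g2 : g * f * g⁻¹ = f * z := by
          rw [hgi, hg, show b * z' * f * (z' * b) = b * (z' * f * z') * b by
            simp only [mul_assoc], conj_of_commute hD hz'D hfz'.symm, hbfb]
        have g3 : g * (f * z) * g⁻¹ = z := by
          rw [← conj_mul, g2, g1, hfz.eq, mul_assoc, sq hD hf, mul_one]
        have e4 : g ^ 4 * z * (g ^ 4)⁻¹
            = g * (g * (g * (g * z * g⁻¹) * g⁻¹) * g⁻¹) * g⁻¹ := by
          simp only [pow_succ, pow_zero, one_mul, mul_inv_rev, mul_assoc]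
        rw [g1, g2, g3, g1, h4b, inv_one, one_mul, mul_one] at e4
        exact hppz.2.2.1 e4.symm
  exact hbf (commute_of_oddPartners_eq hD hc hb hf (oddPartners_eq_of_subset hD hc hb hf hsub))

theorem commutingMembers_eq {a b : G} (ha : a ∈ D) (hb : b ∈ D)
    (h : oddPartners D a = oddPartners D b) : commutingMembers D a = commutingMembers D b := by
  ext f
  refine and_congr_right fun hf => ⟨fun k => ?_, fun k => ?_⟩
  · exact (commute_of_commute_of_oddPartners_eq hD hc ha hb hf h (Commute.symm k)).symm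
  · exact (commute_of_commute_of_oddPartners_eq hD hc hb ha hf h.symm (Commute.symm k)).symm

omit hc [Finite G] in
theorem oddPartners_eq {a b : G} (ha : a ∈ D) (hb : b ∈ D)
    (h : commutingMembers D a = commutingMembers D b) : oddPartners D a = oddPartners D b := by
  have key : ∀ {u v : G}, u ∈ D → v ∈ D → commutingMembers D u = commutingMembers D v →
      oddPartners D u ⊆ oddPartners D v := by
    intro u v hu hv hC w hw
    have hadj := (mem_odd hu).1 hw
    have hCuv : ∀ {x : G}, x ∈ D → Commute x v → Commute x u := fun {x} hx hxv => by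
      have : x ∈ commutingMembers D v := ⟨hx, hxv⟩
      rw [← hC] at this
      exact this.2
    rcases cases3 hD hv hw.1 with k | k | k
    · exact absurd (hCuv hw.1 k.symm).symm (not_commute_of_adj hD hadj)
    · exact (mem_odd hv).2 k
    · exfalso
      rw [orderOf_mul_comm] at k
      obtain ⟨hz, -, hvz, hconj, -, -⟩ := four_facts hD hw.1 hv k
      have hc1 : Commute v (w * v * w) := by rw [hconj]; exact (Commute.refl v).mul_right hvz
      have hc2 : Commute u (w * v * w) := (hCuv (conj_mem hD hw.1 hv) hc1.symm).symm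
      have hc3 : Commute (w * u * w) v := by
        have := hc2.conj w
        rwa [inv_eq hD hw.1, show w * (w * v * w) * w = v by
          simp only [mul_assoc, cancel hD hw.1, sq hD hw.1, mul_one]] at this
      have hc4 := hCuv (conj_mem hD hw.1 hu) hc3
      have e : (u * w) ^ 2 = u * (w * u * w) := by rw [pow_two]; simp only [mul_assoc]
      have h4 : (u * w) ^ (2 ^ 2) = 1 := by
        rw [show (2 : ℕ) ^ 2 = 2 * 2 from rfl, pow_mul, e]
        exact mul_pow_two_of_commute hD hu (conj_mem hD hw.1 hu) hc4.symm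
      have h1 := eq_one_of_odd hadj.2.2.2 h4
      rw [mul_eq_one_iff_eq_inv, inv_eq hD hw.1] at h1
      exact hadj.2.2.1 h1
  exact Set.Subset.antisymm (key ha hb h) (key hb ha h.symm)

end

end Cfsg.Agent.RootInv
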