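import Cfsg.Agent.Lib.RootInv.Basic

/-!
For `a b = b a ∈ D` and `k` with `a k` of odd order and `b k` of order four, some member `z` has
`(a z)^2 = b`.
-/

set_option autoImplicit false

namespace Cfsg.Agent.RootInv

open Cfsg

variable {G : Type*} [Group G] {D : Set G}

/-- Alternately `k` and `a`. -/
def altc (a k : G) (n : ℕ) : G := if Even n then k else a

theorem altc_add_two (a k : G) (n : ℕ) : altc a k (n + 2) = altc a k n := by
  simp [altc, Nat.even_add]

theorem altc_cases (a k : G) (n : ℕ) :
    (altc a k n = k ∧ altc a k (n + 1) = a) ∨ (altc a k n = a ∧ altc a k (n + 1) = k) := by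
  by_cases h : Even n <;> simp [altc, Nat.even_add_one, h]

theorem altc_mem (a k : G) (n : ℕ) {P : G → Prop} (ha : P a) (hk : P k) : P (altc a k n) := by
  unfold altc; split_ifs <;> assumption

/-- The chain starting at `b`. -/
def chain (a k b : G) : ℕ → G
  | 0 => b
  | n + 1 => (altc a k n * chain a k b n) ^ 2

/-- The property carried along the chain. -/
def ChainOK (D : Set G) (a k b : G) (n : ℕ) : Prop :=
  chain a k b n ∈ D ∧ orderOf (altc a k n * chain a k b n) = 4 ∧
    Commute (altc a k (n + 1)) (chain a k b n) ∧
    ∀ i ≤ n, Commute (chain a k b i) (chain a k b n)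

section

variable (hD : IsRootInvolutionSet D)
include hD

theorem pow_two_conj_invariant {a k : G} {V : Subgroup G} (hk : OddAdj D a k)
    (hV : ∀ v ∈ V, a * v * a ∈ V ∧ k * v * k ∈ V) (j : ℕ) {v : G} (hv : v ∈ V) :
    (a * k) ^ j * v * ((a * k) ^ j)⁻¹ ∈ V := by
  induction j with
  | zero => simpa using hv
  | succ j ih =>
    have e : (a * k) ^ (j + 1) * v * ((a * k) ^ (j + 1))⁻¹
        = a * (k * ((a * k) ^ j * v * ((a * k) ^ j)⁻¹) * k) * a := by
      rw [pow_succ', mul_inv_rev, mul_inv_rev, inv_eq hD hk.1, inv_eq hD hk.2.1]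
      simp only [mul_assoc]
    rw [e]
    exact (hV _ (hV _ ih).2).1

variable {a k b : G}

theorem chain_conj {n : ℕ} (h : ChainOK D a k b n) (ha : a ∈ D) (hk : k ∈ D) :
    altc a k n * chain a k b n * altc a k n = chain a k b n * chain a k b (n + 1) ∧
      altc a k (n + 1) * chain a k b n * altc a k (n + 1) = chain a k b n :=
  ⟨(four_facts hD (altc_mem a k n (P := (· ∈ D)) ha hk) h.1 h.2.1).2.2.2.1,
    conj_of_commute hD (altc_mem a k (n + 1) (P := (· ∈ D)) ha hk) h.2.2.1⟩

theorem chainOK (hb : PP D a b) (hk : OddAdj D a k) (h4 : orderOf (k * b) = 4) :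
    ∀ n, ChainOK D a k b n := by
  intro n
  induction n using Nat.strongRecOn with
  | _ n ih =>
  match n with
  | 0 =>
    refine ⟨hb.2.1, by simpa [altc, chain] using h4, ?_, fun i hi => ?_⟩
    · simpa [altc, chain] using hb.2.2.2.1
    · rw [Nat.le_zero.1 hi]
  | n + 1 =>
    have ha := hk.1
    have hkD := hk.2.1
    have hn := ih n (Nat.lt_succ_self n)
    set c := altc a k n with hc
    set c' := altc a k (n + 1) with hc'
    set u := chain a k b n with hu
    set t := chain a k b (n + 1) with ht
    have hcD : c ∈ D := altc_mem a k n (P := (· ∈ D)) ha hkD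
    have hc'D : c' ∈ D := altc_mem a k (n + 1) (P := (· ∈ D)) ha hkD
    obtain ⟨htD, hct, hut, hconj, -, -⟩ := four_facts hD hcD hn.1 hn.2.1
    change t ∈ D at htD
    change Commute c t at hct
    change Commute u t at hut
    change c * u * c = u * t at hconj
    have hcomm : ∀ i ≤ n + 1, Commute (chain a k b i) t := by
      intro i hi
      rcases Nat.lt_or_ge i n with h | h
      · have hcu : Commute (chain a k b i) (c * u * c) := by
          have h1 : Commute (c * chain a k b i * c) u := by
            obtain ⟨e1, e2⟩ := chain_conj hD (ih i (by omega)) ha hkD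
            rcases altc_cases a k i with ⟨p, q⟩ | ⟨p, q⟩ <;>
              rcases altc_cases a k n with ⟨p', -⟩ | ⟨p', -⟩ <;>
              rw [p] at e1 <;> rw [q] at e2 <;> rw [hc, p']
            all_goals first
              | (rw [e1]; exact (hn.2.2.2 i (by omega)).mul_left (hn.2.2.2 (i + 1) (by omega)))
              | (rw [e2]; exact hn.2.2.2 i (by omega))
          have := h1.conj c
          rw [inv_eq hD hcD] at this
          simpa [mul_assoc, sq hD hcD, cancel hD hcD] using this
        have : t = u * (c * u * c) := by rw [hconj, cancel hD hn.1]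
        rw [this]
        exact (hn.2.2.2 i (by omega)).mul_right hcu
      · rcases (show i = n ∨ i = n + 1 by omega) with rfl | rfl
        · exact hut
        · exact Commute.refl _
    refine ⟨htD, ?_, ?_, hcomm⟩
    swap
    · rw [altc_add_two]; exact hct
    have hcc : OddAdj D c c' := by
      rcases altc_cases a k n with ⟨p, q⟩ | ⟨p, q⟩ <;> rw [hc, hc', p, q]
      exacts [adj_symm hD hk, hk]
    rcases cases3 hD hc'D htD with h | h | h
    · exfalso
      -- every member of the chain is then moved by a 2-power of `r`, which has odd order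
      set r := a * k with hr
      have hat : Commute a t ∧ Commute k t := by
        rcases altc_cases a k n with ⟨p, q⟩ | ⟨p, q⟩ <;> rw [hc, p] at hct <;> rw [hc', q] at h
        exacts [⟨h, hct⟩, ⟨hct, h⟩]
      have hcom : ∀ i ≤ n + 1, ∀ j ≤ n + 1, Commute (chain a k b i) (chain a k b j) := by
        intro i hi j hj
        rcases Nat.lt_or_ge j (n + 1) with hj' | hj'
        · rcases Nat.lt_or_ge i (n + 1) with hi' | hi'
          · rcases le_total i j with hij | hij
            · exact (ih j hj').2.2.2 i hij
            · exact ((ih i hi').2.2.2 j hij).symm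
          · rw [show i = n + 1 by omega]; exact (hcomm j hj).symm
        · rw [show j = n + 1 by omega]; exact hcomm i hi
      have hsq : ∀ i ≤ n + 1, chain a k b i * chain a k b i = 1 := fun i hi => by
        rcases Nat.lt_or_ge i (n + 1) with hi' | hi'
        · exact sq hD (ih i hi').1
        · rw [show i = n + 1 by omega]; exact sq hD htD
      let W : ℕ → Subgroup G := fun j => Subgroup.closure {v | ∃ i, j ≤ i ∧ i ≤ n + 1 ∧ chain a k b i = v}
      have hWcomm : ∀ j, IsMulCommutative (W j) := fun j => Subgroup.isMulCommutative_closure (by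
        rintro _ ⟨i, -, hi, rfl⟩ _ ⟨i', -, hi', rfl⟩
        exact hcom i hi i' hi')
      have hgen : ∀ {i j : ℕ}, j ≤ i → i ≤ n + 1 → chain a k b i ∈ W j := fun h1 h2 =>
        Subgroup.subset_closure ⟨_, h1, h2, rfl⟩
      have hWinv : ∀ j, ∀ v ∈ W j, a * v * a ∈ W j ∧ k * v * k ∈ W j := by
        intro j v hv
        induction hv using Subgroup.closure_induction with
        | mem v hv =>
          obtain ⟨i, hji, hi, rfl⟩ := hv
          rcases Nat.lt_or_ge i (n + 1) with hi' | hi'
          · obtain ⟨e1, e2⟩ := chain_conj hD (ih i hi') ha hkD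
            have m1 : chain a k b i * chain a k b (i + 1) ∈ W j :=
              mul_mem (hgen hji hi) (hgen (by omega) (by omega))
            rcases altc_cases a k i with ⟨p, q⟩ | ⟨p, q⟩ <;> rw [p] at e1 <;> rw [q] at e2 <;>
              rw [e1, e2] <;> exact ⟨by first | exact m1 | exact hgen hji hi,
                by first | exact m1 | exact hgen hji hi⟩
          · have : chain a k b i = t := by rw [show i = n + 1 by omega]
            rw [this, conj_of_commute hD ha hat.1, conj_of_commute hD hkD hat.2, ← this]
            exact ⟨hgen hji hi, hgen hji hi⟩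
        | one => simp [sq hD ha, sq hD hkD]
        | mul x y _ _ hx hy =>
          constructor
          · have := mul_mem hx.1 hy.1
            simpa [mul_assoc, cancel hD ha] using this
          · have := mul_mem hx.2 hy.2
            simpa [mul_assoc, cancel hD hkD] using this
        | inv x _ hx =>
          constructor
          · have := inv_mem hx.1
            simpa [mul_assoc, inv_eq hD ha] using this
          · have := inv_mem hx.2
            simpa [mul_assoc, inv_eq hD hkD] using this
      have hW2 : ∀ j, ∀ v ∈ W j, v * v = 1 := by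
        intro j v hv
        suffices H : ∀ v, ∀ hv : v ∈ W j, (⟨v, hv⟩ : W j) * ⟨v, hv⟩ = 1 from
          congrArg Subtype.val (H v hv)
        intro v hv
        refine Subgroup.closure_induction (p := fun v hv => (⟨v, hv⟩ : W j) * ⟨v, hv⟩ = 1)
          ?_ (Subtype.ext (one_mul 1)) ?_ ?_ hv
        · rintro _ ⟨i, -, hi, rfl⟩; exact Subtype.ext (hsq i hi)
        · intro x y hx hy h1 h2
          have e : (⟨x * y, mul_mem hx hy⟩ : W j) = ⟨x, hx⟩ * ⟨y, hy⟩ := rfl
          rw [e, mul_assoc, ← mul_assoc (⟨y, hy⟩ : W j) ⟨x, hx⟩,
            (hWcomm j).is_comm.comm ⟨y, hy⟩ ⟨x, hx⟩, mul_assoc (⟨x, hx⟩ : W j) ⟨y, hy⟩ ⟨y, hy⟩,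
            h2, mul_one, h1]
        · intro x hx h1
          have e : (⟨x⁻¹, inv_mem hx⟩ : W j) = (⟨x, hx⟩ : W j)⁻¹ := rfl
          rw [e, ← mul_inv_rev, h1, inv_one]
      have hfix : ∀ d j, j + d = n + 1 → ∀ v ∈ W j, Commute (r ^ (2 ^ d)) v := by
        intro d
        induction d with
        | zero =>
          intro j hj v hv
          simp only [pow_zero, pow_one]
          induction hv using Subgroup.closure_induction with
          | mem v hv =>
            obtain ⟨i, hji, hi, rfl⟩ := hv
            rw [show i = n + 1 by omega]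
            exact hat.1.mul_left hat.2
          | one => exact Commute.one_right _
          | mul x y _ _ hx hy => exact hx.mul_right hy
          | inv x _ hx => exact hx.inv_right
        | succ d IH =>
          intro j hj v hv
          induction hv using Subgroup.closure_induction with
          | mem v hv =>
            obtain ⟨i, hji, hi, rfl⟩ := hv
            rcases Nat.lt_or_ge j i with h' | h'
            · have := (IH (j + 1) (by omega) _ (hgen h' hi)).pow_left 2
              rwa [← pow_mul, ← pow_succ] at this
            · obtain rfl : i = j := le_antisymm h' hji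
              set s := chain a k b i with hs
              have hss : s * s = 1 := hsq i (by omega)
              have step : r * s * r⁻¹ * s ∈ W (i + 1) := by
                obtain ⟨e1, e2⟩ := chain_conj hD (ih i (by omega)) ha hkD
                have e : r * s * r⁻¹ = a * (k * s * k) * a := by
                  rw [hr, mul_inv_rev, inv_eq hD ha, inv_eq hD hkD]; simp only [mul_assoc]
                have hs1 : chain a k b (i + 1) ∈ W (i + 1) := hgen le_rfl (by omega)
                rw [e]
                rcases altc_cases a k i with ⟨p, q⟩ | ⟨p, q⟩ <;> rw [p] at e1 <;> rw [q] at e2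
                · rw [e1, show a * (s * chain a k b (i + 1)) * a * s
                      = (a * s * a) * (a * chain a k b (i + 1) * a) * s by
                    simp only [mul_assoc, cancel hD ha], e2]
                  have m2 := (hWinv (i + 1) _ hs1).1
                  have hc2 : Commute s (a * chain a k b (i + 1) * a) := by
                    have := (hcom i (by omega) (i + 1) (by omega)).conj a
                    rwa [inv_eq hD ha, ← hs, e2] at this
                  rwa [hc2.eq, mul_assoc, hsq i (by omega), mul_one]
                · rw [e2, e1, (hcom i (by omega) (i + 1) (by omega)).eq, mul_assoc,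
                    hsq i (by omega), mul_one]
                  exact hs1
              have tel : ∀ l : ℕ, r ^ l * s * (r ^ l)⁻¹ * s ∈ W (i + 1) := by
                intro l
                induction l with
                | zero => simpa [hss] using one_mem (W (i + 1))
                | succ l ihl =>
                  have e : r ^ (l + 1) * s * (r ^ (l + 1))⁻¹ * s
                      = (r * (r ^ l * s * (r ^ l)⁻¹ * s) * r⁻¹) * (r * s * r⁻¹ * s) := by
                    rw [pow_succ', mul_inv_rev]
                    simp only [mul_assoc, inv_mul_cancel_left]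
                    rw [← mul_assoc s s, hsq i (by omega), one_mul]
                  rw [e]
                  refine mul_mem ?_ step
                  have := pow_two_conj_invariant hD hk (hWinv (i + 1)) 1 ihl
                  rwa [pow_one] at this
              set q := r ^ (2 ^ d) with hq
              set w := q * s * q⁻¹ * s with hw
              have hwW : w ∈ W (i + 1) := tel _
              have hqw : Commute q w := IH (i + 1) (by omega) w hwW
              have e1 : q * s * q⁻¹ = w * s := by
                rw [hw, mul_assoc _ s s, hss, mul_one]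
              have e2 : (q * q) * s * (q * q)⁻¹ = s := by
                calc q * q * s * (q * q)⁻¹ = q * (q * s * q⁻¹) * q⁻¹ := by group
                  _ = q * (w * s) * q⁻¹ := by rw [e1]
                  _ = (q * w * q⁻¹) * (q * s * q⁻¹) := by group
                  _ = w * (w * s) := by rw [hqw.eq, mul_inv_cancel_right, e1]
                  _ = s := by rw [← mul_assoc, hW2 _ w hwW, one_mul]
              rw [pow_succ, pow_mul, pow_two, ← hq]
              exact mul_inv_eq_iff_eq_mul.1 e2
          | one => exact Commute.one_right _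
          | mul x y _ _ hx hy => exact hx.mul_right hy
          | inv x _ hx => exact hx.inv_right
      have hb0 : Commute (r ^ (2 ^ (n + 1))) b :=
        hfix (n + 1) 0 (Nat.zero_add _) b (hgen (i := 0) le_rfl (Nat.zero_le _))
      obtain ⟨m, hm⟩ := exists_pow_eq_self_of_coprime (x := r) (n := 2 ^ (n + 1))
        (Nat.Coprime.pow_left _ (Nat.coprime_two_left.2 hk.2.2.2))
      have hrb : Commute r b := hm ▸ hb0.pow_left m
      refine not_commute_of_four hD hkD hb.2.1 h4 ?_
      have e : k = a * r := by rw [hr, cancel hD ha]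
      rw [e]
      exact hb.2.2.2.1.mul_left hrb
    · exfalso
      have hpp : PP D t u := (pp_of_four hD hcD hn.1 hn.2.1).symm
      exact not_commute_of_pp hD hpp (adj_symm hD h) hn.2.2.1.symm
    · exact h

/-- For `a b = b a ∈ D` and `k` with `a k` of odd order and `b k` of order four, some member `z`
has `(a z)^2 = b`. -/
theorem exists_four_sq [Finite G] (hb : PP D a b) (hk : OddAdj D a k)
    (h4 : orderOf (k * b) = 4) :
    ∃ z ∈ D, orderOf (a * z) = 4 ∧ (a * z) ^ 2 = b ∧ Commute b z := by
  have ok := chainOK hD hb hk h4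
  have ha := hk.1
  have hkD := hk.2.1
  set r := a * k with hr
  let V : Subgroup G := Subgroup.closure (Set.range (chain a k b))
  have hVc : IsMulCommutative V := Subgroup.isMulCommutative_closure (by
    rintro _ ⟨i, rfl⟩ _ ⟨j, rfl⟩
    rcases le_total i j with h | h
    · exact (ok j).2.2.2 i h
    · exact ((ok i).2.2.2 j h).symm)
  have hcomm : ∀ u ∈ V, ∀ v ∈ V, Commute u v := fun u hu v hv =>
    congrArg Subtype.val (hVc.is_comm.comm ⟨u, hu⟩ ⟨v, hv⟩)
  have hV2 : ∀ v ∈ V, v * v = 1 := by
    intro v hv
    induction hv using Subgroup.closure_induction with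
    | mem v hv => obtain ⟨i, rfl⟩ := hv; exact sq hD (ok i).1
    | one => exact one_mul 1
    | mul x y hx hy h1 h2 =>
      rw [mul_assoc, ← mul_assoc y x, (hcomm y hy x hx).eq, mul_assoc x y y, h2, mul_one, h1]
    | inv x _ h1 => rw [← mul_inv_rev, h1, inv_one]
  have hVgen : ∀ i, chain a k b i ∈ V := fun i => Subgroup.subset_closure ⟨i, rfl⟩
  have hVinv : ∀ v ∈ V, a * v * a ∈ V ∧ k * v * k ∈ V := by
    intro v hv
    induction hv using Subgroup.closure_induction with
    | mem v hv =>
      obtain ⟨i, rfl⟩ := hv
      obtain ⟨e1, e2⟩ := chain_conj hD (ok i) ha hkD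
      have m1 : chain a k b i * chain a k b (i + 1) ∈ V := mul_mem (hVgen i) (hVgen _)
      rcases altc_cases a k i with ⟨p, q⟩ | ⟨p, q⟩ <;> rw [p] at e1 <;> rw [q] at e2 <;>
        rw [e1, e2] <;> exact ⟨by first | exact m1 | exact hVgen i,
          by first | exact m1 | exact hVgen i⟩
    | one => simp [sq hD ha, sq hD hkD]
    | mul x y _ _ hx hy =>
      constructor
      · have := mul_mem hx.1 hy.1
        simpa [mul_assoc, cancel hD ha] using this
      · have := mul_mem hx.2 hy.2
        simpa [mul_assoc, cancel hD hkD] using this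
    | inv x _ hx =>
      constructor
      · have := inv_mem hx.1
        simpa [mul_assoc, inv_eq hD ha] using this
      · have := inv_mem hx.2
        simpa [mul_assoc, inv_eq hD hkD] using this
  have hrV : ∀ (l : ℕ) {v : G}, v ∈ V → r ^ l * v * (r ^ l)⁻¹ ∈ V :=
    fun l _ hv => pow_two_conj_invariant hD hk hVinv l hv
  let F : ℕ → G → G := fun l v => (v * r) ^ l * (r ^ l)⁻¹
  have hFs : ∀ l v, F (l + 1) v = F l v * (r ^ l * v * (r ^ l)⁻¹) := fun l v => by
    simp only [F, pow_succ]; group
  have hFV : ∀ (l : ℕ) {v : G}, v ∈ V → F l v ∈ V := by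
    intro l v hv
    induction l with
    | zero => simp [F]
    | succ l ih => rw [hFs]; exact mul_mem ih (hrV l hv)
  have hFmul : ∀ (l : ℕ) {u v : G}, u ∈ V → v ∈ V → F l (u * v) = F l u * F l v := by
    intro l u v hu hv
    induction l with
    | zero => simp [F]
    | succ l ih =>
      rw [hFs, hFs, hFs, ih, conj_mul.symm, mul_assoc (F l u), mul_assoc (F l u),
        ← mul_assoc (F l v), (hcomm _ (hFV l hv) _ (hrV l hu)).eq]
      simp only [mul_assoc]
  set m := orderOf r with hm
  have hrm : r ^ m = 1 := pow_orderOf_eq_one r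
  have hP : ∀ v, F m v = (v * r) ^ m := fun v => by simp [F, hrm]
  have hmodd : Odd m := hk.2.2.2
  -- the product over the orbit is trivial
  have hPgen : ∀ i, F m (chain a k b i) = 1 := by
    intro i
    induction i with
    | zero =>
      show F m b = 1
      have hodd : Odd (orderOf (b * r)) := by
        rcases adj_or_adj hD hb hk with h | h
        · rw [orderOf_mul_comm] at h4
          exact absurd h (not_adj_of_four hD h4)
        · have e : a * b * k = b * r := by rw [hr, hb.2.2.2.1.eq, mul_assoc]
          exact e ▸ h.2.2.2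
      refine eq_one_of_odd (j := 1) (x := F m b) ?_ ?_
      · rw [hP]; exact Odd.of_dvd_nat hodd (orderOf_pow_dvd _)
      · rw [pow_one, pow_two]; exact hV2 _ (hFV m (hVgen 0))
    | succ i ih =>
      set s := chain a k b i with hs
      obtain ⟨e1, e2⟩ := chain_conj hD (ok i) ha hkD
      have hs2 : s * s = 1 := sq hD (ok i).1
      have ht : chain a k b (i + 1) = s * (altc a k i * s * altc a k i) := by
        rw [e1, ← mul_assoc, hs2, one_mul]
      have hcV : altc a k i * s * altc a k i ∈ V :=
        altc_mem a k i (P := fun c => c * s * c ∈ V) (hVinv s (hVgen i)).1 (hVinv s (hVgen i)).2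
      rw [ht, hFmul m (hVgen i) hcV, ih, one_mul, hP]
      have hconjpow : ∀ g : G, (g * (s * r) * g⁻¹) ^ m = 1 := fun g => by
        rw [conj_pow, ← hP, ih, mul_one, mul_inv_cancel]
      rcases altc_cases a k i with ⟨p, q⟩ | ⟨p, q⟩ <;> rw [p] <;> rw [q] at e2
      · have e : r⁻¹ * (s * r) * r⁻¹⁻¹ = k * s * k * r := by
          rw [show r⁻¹ * (s * r) * r⁻¹⁻¹ = (r⁻¹ * s * r) * r by group]
          congr 1
          rw [← hs] at e2
          conv_rhs => rw [← e2]
          rw [hr, mul_inv_rev, inv_eq hD ha, inv_eq hD hkD]
          simp only [mul_assoc]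
        rw [← e]; exact hconjpow r⁻¹
      · have e : r * (s * r) * r⁻¹ = a * s * a * r := by
          rw [show r * (s * r) * r⁻¹ = (r * s * r⁻¹) * r by group]
          congr 1
          rw [← hs] at e2
          conv_rhs => rw [← e2]
          rw [hr, mul_inv_rev, inv_eq hD ha, inv_eq hD hkD]
          simp only [mul_assoc]
        rw [← e]; exact hconjpow r
  have hPall : ∀ v ∈ V, F m v = 1 := by
    intro v hv
    induction hv using Subgroup.closure_induction with
    | mem v hv => obtain ⟨i, rfl⟩ := hv; exact hPgen i
    | one => simp [F]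
    | mul x y hx hy h1 h2 => rw [hFmul m hx hy, h1, h2, one_mul]
    | inv x hx h1 => rw [inv_eq_of_mul_eq_one_right (hV2 x hx)]; exact h1
  have hfixed : ∀ v ∈ V, Commute a v → Commute k v → v = 1 := by
    intro v hv h1 h2
    have hvr : Commute v r := (h1.symm).mul_right h2.symm
    have h3 := hPall v hv
    rw [hP, hvr.mul_pow, hrm, mul_one] at h3
    obtain ⟨l, hl⟩ := hmodd
    rwa [hl, pow_succ, pow_mul, pow_two, hV2 v hv, one_pow, one_mul] at h3
  let z : G → G := fun v => k * v * k * v
  have hzV : ∀ {v}, v ∈ V → z v ∈ V := fun hv => mul_mem (hVinv _ hv).2 hv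
  have hzk : ∀ {v}, v ∈ V → Commute k (z v) := fun {v} hv => by
    refine commute_of_conj hD hkD ?_
    show k * (k * v * k * v) * k = k * v * k * v
    rw [(hcomm _ (hVinv v hv).2 v hv).eq]
    simp only [mul_assoc, sq hD hkD, mul_one, cancel hD hkD]
    have := (hcomm _ (hVinv v hv).2 v hv).eq
    simpa [mul_assoc] using this
  let T : G → G := fun v => a * z v * a * z v
  have four_of : ∀ {c v}, c ∈ D → v ∈ D → v ∈ V → c * v * c ∈ V → ¬Commute c v →
      orderOf (c * v) = 4 ∧ (c * v) ^ 2 = c * v * c * v := by
    intro c v hc hv hvV hcv hnc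
    have e : (c * v) ^ 2 = c * v * c * v := by rw [pow_two]; simp only [mul_assoc]
    refine ⟨((cases3 hD hc hv).resolve_left hnc).resolve_left fun hadj => ?_, e⟩
    have h44 : (c * v) ^ (2 ^ 2) = 1 := by
      rw [show (2 : ℕ) ^ 2 = 2 * 2 from rfl, pow_mul, e, pow_two]
      exact hV2 _ (mul_mem hcv hvV)
    have := eq_one_of_odd hadj.2.2.2 h44
    rw [mul_eq_one_iff_eq_inv, inv_eq hD hv] at this
    exact hadj.2.2.1 this
  let S := {v : G // v ∈ D ∧ v ∈ V ∧ Commute a v}
  have hstep : ∀ v : S, orderOf (k * v.1) = 4 ∧ z v.1 ∈ D ∧ orderOf (a * z v.1) = 4 ∧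
      (a * z v.1) ^ 2 = T v.1 ∧ T v.1 ∈ D ∧ T v.1 ∈ V ∧ Commute a (T v.1) := by
    rintro ⟨v, hvD, hvV, hva⟩
    obtain ⟨h1, e1⟩ := four_of hkD hvD hvV (hVinv v hvV).2
      (fun hc => ne_one hD hvD (hfixed v hvV hva hc))
    have hzD : z v ∈ D := by
      have := (four_facts hD hkD hvD h1).1
      rwa [e1] at this
    obtain ⟨h2, e2⟩ := four_of ha hzD (hzV hvV) (hVinv _ (hzV hvV)).1
      (fun hc => ne_one hD hzD (hfixed _ (hzV hvV) hc (hzk hvV)))
    obtain ⟨h3, h4', -⟩ := four_facts hD ha hzD h2
    rw [e2] at h3 h4'
    exact ⟨h1, hzD, h2, e2, h3, mul_mem (hVinv _ (hzV hvV)).1 (hzV hvV), h4'⟩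
  let Tm : S → S := fun v => ⟨T v.1, (hstep v).2.2.2.2⟩
  have hinj : Function.Injective Tm := by
    rintro ⟨u, huD, huV, hua⟩ ⟨v, hvD, hvV, hva⟩ he
    have he' : T u = T v := congrArg Subtype.val he
    set w := u * v with hw
    have hwV : w ∈ V := mul_mem huV hvV
    have hzw : z w = z u * z v := by
      show k * (u * v) * k * (u * v) = k * u * k * u * (k * v * k * v)
      rw [show k * (u * v) * k = (k * u * k) * (k * v * k) by
        simp only [mul_assoc, cancel hD hkD]]
      calc k * u * k * (k * v * k) * (u * v) = k * u * k * ((k * v * k) * u) * v := by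
            simp only [mul_assoc]
        _ = k * u * k * (u * (k * v * k)) * v := by rw [(hcomm _ (hVinv v hvV).2 u huV).eq]
        _ = k * u * k * u * (k * v * k * v) := by simp only [mul_assoc]
    have hTw : T w = 1 := by
      show a * z w * a * z w = 1
      rw [hzw, show a * (z u * z v) * a = (a * z u * a) * (a * z v * a) by
        simp only [mul_assoc, cancel hD ha]]
      calc a * z u * a * (a * z v * a) * (z u * z v)
          = a * z u * a * ((a * z v * a) * z u) * z v := by simp only [mul_assoc]
        _ = a * z u * a * (z u * (a * z v * a)) * z v := by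
          rw [(hcomm _ (hVinv _ (hzV hvV)).1 _ (hzV huV)).eq]
        _ = T u * T v := by simp only [T, mul_assoc]
        _ = 1 := by
          rw [he']; exact hV2 _ (mul_mem (hVinv _ (hzV hvV)).1 (hzV hvV))
    have hz1 : z w = 1 := by
      refine hfixed _ (hzV hwV) (commute_of_conj hD ha ?_) (hzk hwV)
      calc a * z w * a = T w * z w := by
            simp only [T, mul_assoc, hV2 _ (hzV hwV), mul_one]
        _ = z w := by rw [hTw, one_mul]
    have hw1 : w = 1 := by
      refine hfixed w hwV (hua.mul_right hva) (commute_of_conj hD hkD ?_)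
      calc k * w * k = z w * w := by simp only [z, mul_assoc, hV2 w hwV, mul_one]
        _ = w := by rw [hz1, one_mul]
    apply Subtype.ext
    show u = v
    rw [hw, mul_eq_one_iff_eq_inv, inv_eq hD hvD] at hw1
    exact hw1
  obtain ⟨v, hv⟩ := Finite.surjective_of_injective hinj ⟨b, hb.2.1, hVgen 0, hb.2.2.2.1⟩
  have hvb : T v.1 = b := congrArg Subtype.val hv
  obtain ⟨-, hzD, h2, e2, -⟩ := hstep v
  exact ⟨z v.1, hzD, h2, e2.trans hvb, hcomm b (hVgen 0) _ (hzV v.2.2.1)⟩

end

end Cfsg.Agent.RootInv
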