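import Cfsg.Agent.Lib.RootInv.Classes
import Cfsg.Agent.Lib.PCore.Basic
import Cfsg.Prelude.Def_QuasithinSetup

/-!
Root involutions with connected odd-product graph and a product of two members in the set: a normal
subgroup is everything or lies in `O_{2,Z}`.
-/

set_option autoImplicit false

namespace Cfsg.Agent.RootInv

open Cfsg
open scoped commutatorElement

variable {G : Type*} [Group G] {D : Set G}

theorem mem_twoZCore_iff {g : G} :
    g ∈ twoZCore G ↔ ∀ h : G, ⁅h, g⁆ ∈ pCore 2 G := by
  unfold twoZCore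
  rw [Subgroup.mem_comap, Subgroup.mem_center_iff]
  constructor
  · intro hg h
    rw [← QuotientGroup.eq_one_iff, ← QuotientGroup.mk'_apply, map_commutatorElement,
      commutatorElement_eq_one_iff_mul_comm]
    exact hg _
  · intro hg q
    obtain ⟨h, rfl⟩ := QuotientGroup.mk'_surjective _ q
    rw [← commutatorElement_eq_one_iff_mul_comm, ← map_commutatorElement, QuotientGroup.mk'_apply,
      QuotientGroup.eq_one_iff]
    exact hg h

section

variable [Finite G] (hD : IsRootInvolutionSet D) (hc : IsConnectedSet (OddAdj D) D)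
include hD hc

theorem le_twoZCore_or_eq_top (hDD : (D ∩ commutingProducts D).Nonempty) (N : Subgroup G)
    [hN : N.Normal] : N ≤ twoZCore G ∨ N = ⊤ := by
  by_cases hDN : ∃ a ∈ D, a ∈ N
  · right
    obtain ⟨a, ha, haN⟩ := hDN
    rw [eq_top_iff, ← hD.generates, Subgroup.closure_le]
    intro b hb
    obtain ⟨g, rfl⟩ := exists_conj hD hc ha hb
    exact hN.conj_mem a haN g
  left
  have hDN' : ∀ a ∈ D, a ∉ N := fun a ha h => hDN ⟨a, ha, h⟩
  have hconjN : ∀ a ∈ D, ∀ g ∈ N, a * (g * a * g⁻¹) ∈ N := by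
    intro a ha g hg
    rw [show a * (g * a * g⁻¹) = (a * g * a⁻¹) * g⁻¹ by rw [inv_eq hD ha]; group]
    exact mul_mem (hN.conj_mem g hg a) (inv_mem hg)
  -- a member commutes with its conjugates under `N`
  have hcomm : ∀ a ∈ D, ∀ g ∈ N, Commute a (g * a * g⁻¹) := by
    intro a ha g hg
    have he := hD.conj_mem a ha g
    set e := g * a * g⁻¹ with hedef
    have hae := hconjN a ha g hg
    rw [← hedef] at hae
    rcases cases3 hD ha he with h | h | h
    · exact h
    · exfalso
      obtain ⟨x, hxD, p, hp, q, hq, hpq, hne, rfl⟩ := hDD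
      obtain ⟨k, hk⟩ := exists_conj hD hc hp ha
      set b := k * q * k⁻¹ with hbdef
      have hab : Commute a b := by
        rw [← hk, hbdef]; exact Commute.conj (show Commute p q from hpq) k
      have hpp : PP D a b := by
        refine ⟨ha, hD.conj_mem q hq k, fun e' => hne ?_, hab, ?_⟩
        · rw [← hk, hbdef] at e'
          have := mul_left_cancel (mul_right_cancel e')
          rw [this, sq hD hp]
        · rw [← hk, hbdef, conj_mul]
          exact hD.conj_mem _ hxD k
      have key : ∀ u, PP D a u → OddAdj D u e → False := by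
        intro u hu hue
        have hmk : (a : G ⧸ N) = e := by
          rw [QuotientGroup.eq, inv_eq hD ha]; exact hae
        refine hDN' _ hu.2.2.2.2 ((QuotientGroup.eq_one_iff _).1 ?_)
        have h2 : ((a * u : G) : G ⧸ N) ^ 2 = 1 := by
          rw [← QuotientGroup.mk_pow, pow_two, sq hD hu.2.2.2.2, QuotientGroup.mk_one]
        have hm : ((a * u : G) : G ⧸ N) ^ orderOf (u * e) = 1 := by
          rw [hu.2.2.2.1.eq, QuotientGroup.mk_mul, hmk, ← QuotientGroup.mk_mul,
            ← QuotientGroup.mk_pow, pow_orderOf_eq_one, QuotientGroup.mk_one]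
        have := pow_gcd_eq_one.2 ⟨h2, hm⟩
        rwa [(Nat.coprime_two_left.2 hue.2.2.2).gcd_eq_one, pow_one] at this
      rcases adj_or_adj hD hpp h with h' | h'
      · exact key b hpp h'
      · exact key (a * b) (PP.third hD hpp) h'
    · exact absurd ((four_facts hD ha he h).1) fun hz => hDN' _ hz (N.pow_mem hae 2)
  have hmem : ∀ a ∈ D, ∀ g ∈ N, ⁅a, g⁆ ∈ pCore 2 G := by
    intro a ha g hg
    set C : Set G := {c | ∃ h ∈ N, c = a * (h * a * h⁻¹)} with hC
    set M := Subgroup.closure C with hM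
    have horb : ∀ h ∈ N, ∀ h' ∈ N, Commute (h * a * h⁻¹) (h' * a * h'⁻¹) := by
      intro h hh h' hh'
      have := (hcomm a ha (h⁻¹ * h') (mul_mem (inv_mem hh) hh')).conj h
      simpa [mul_assoc] using this
    have ha' : ∀ h ∈ N, Commute a (h * a * h⁻¹) := hcomm a ha
    have hMc : IsMulCommutative M := Subgroup.isMulCommutative_closure (by
      rintro _ ⟨h, hh, rfl⟩ _ ⟨h', hh', rfl⟩
      exact ((Commute.refl a).mul_right (ha' h' hh')).mul_left
        (((ha' h hh).symm).mul_right (horb h hh h' hh')))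
    have hMN : M ≤ N := (Subgroup.closure_le _).2 (by
      rintro _ ⟨h, hh, rfl⟩; exact hconjN a ha h hh)
    have hM2 : IsPGroup 2 M := by
      intro z
      refine ⟨1, ?_⟩
      suffices H : ∀ v, ∀ hv : v ∈ M, (⟨v, hv⟩ : M) * ⟨v, hv⟩ = 1 by
        rw [pow_one, pow_two]; exact H z.1 z.2
      intro v hv
      refine Subgroup.closure_induction (p := fun v hv => (⟨v, hv⟩ : M) * ⟨v, hv⟩ = 1)
        ?_ (Subtype.ext (one_mul 1)) ?_ ?_ hv
      · rintro _ ⟨h, hh, rfl⟩
        apply Subtype.ext
        have := mul_pow_two_of_commute hD ha (hD.conj_mem a ha h) (ha' h hh)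
        rw [pow_two] at this
        exact this
      · intro x y hx hy h1 h2
        have e : (⟨x * y, mul_mem hx hy⟩ : M) = ⟨x, hx⟩ * ⟨y, hy⟩ := rfl
        rw [e, mul_assoc, ← mul_assoc (⟨y, hy⟩ : M) ⟨x, hx⟩,
          hMc.is_comm.comm ⟨y, hy⟩ ⟨x, hx⟩, mul_assoc (⟨x, hx⟩ : M) ⟨y, hy⟩ ⟨y, hy⟩,
          h2, mul_one, h1]
      · intro x hx h1
        have e : (⟨x⁻¹, inv_mem hx⟩ : M) = (⟨x, hx⟩ : M)⁻¹ := rfl
        rw [e, ← mul_inv_rev, h1, inv_one]
    have hnormM : N ≤ Subgroup.normalizer (M : Set G) := by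
      have key : ∀ n ∈ N, ∀ v ∈ M, n * v * n⁻¹ ∈ M := by
        intro n hn v hv
        induction hv using Subgroup.closure_induction with
        | mem v hv =>
          obtain ⟨h, hh, rfl⟩ := hv
          have e : n * (a * (h * a * h⁻¹)) * n⁻¹
              = (a * (n * a * n⁻¹))⁻¹ * (a * (n * h * a * (n * h)⁻¹)) := by
            simp [mul_assoc, inv_eq hD ha, cancel hD ha]
          rw [e]
          exact mul_mem (inv_mem (Subgroup.subset_closure ⟨n, hn, rfl⟩))
            (Subgroup.subset_closure ⟨n * h, mul_mem hn hh, rfl⟩)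
        | one => simp
        | mul x y _ _ hx hy => rw [← conj_mul]; exact mul_mem hx hy
        | inv x _ hx => rw [← conj_inv]; exact inv_mem hx
      intro n hn
      rw [Subgroup.mem_normalizer_iff]
      refine fun v => ⟨key n hn v, fun hv => ?_⟩
      have := key n⁻¹ (inv_mem hn) _ hv
      simpa [mul_assoc] using this
    have : (M.subgroupOf N).Normal := Subgroup.normal_subgroupOf_of_le_normalizer hnormM
    have hin : M.subgroupOf N ≤ pCore 2 N :=
      PCore.le_pCore (hM2.comap_of_injective _ N.subtype_injective)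
    have hgM : ⁅a, g⁆ ∈ M := by
      refine Subgroup.subset_closure ⟨g, hg, ?_⟩
      rw [commutatorElement_def, inv_eq hD ha]; simp only [mul_assoc]
    have := Subgroup.mem_map_of_mem N.subtype (hin (show (⟨_, hMN hgM⟩ : N) ∈ _ from hgM))
    rw [PCore.map_pCore_subtype_of_normal] at this
    exact this.1
  intro g hg
  rw [mem_twoZCore_iff]
  intro h
  have hh : h ∈ Subgroup.closure D := by rw [hD.generates]; trivial
  rw [← QuotientGroup.eq_one_iff, ← QuotientGroup.mk'_apply, map_commutatorElement,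
    commutatorElement_eq_one_iff_mul_comm]
  set π := QuotientGroup.mk' (pCore 2 G) with hπ
  suffices H : Commute (π h) (π g) from H
  induction hh using Subgroup.closure_induction with
  | mem a ha =>
    have := (QuotientGroup.eq_one_iff _).2 (hmem a ha g hg)
    rw [← QuotientGroup.mk'_apply, map_commutatorElement,
      commutatorElement_eq_one_iff_commute] at this
    exact this
  | one => rw [map_one]; exact Commute.one_left _
  | mul x y _ _ hx hy => rw [map_mul]; exact hx.mul_left hy
  | inv x _ hx => rw [map_inv]; exact hx.inv_left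

omit hc in
theorem not_commutator_le_twoZCore {a k : G} (h : OddAdj D a k) :
    ¬commutator G ≤ twoZCore G := by
  intro hle
  have h2 : ⁅a, ⁅a, k⁆⁆ ∈ pCore 2 G :=
    mem_twoZCore_iff.1 (hle (Subgroup.commutator_mem_commutator (Subgroup.mem_top _)
      (Subgroup.mem_top _))) a
  have e1 : ⁅a, k⁆ = (a * k) ^ 2 := by
    rw [commutatorElement_def, inv_eq hD h.1, inv_eq hD h.2.1, pow_two]; simp only [mul_assoc]
  have e2 : ⁅a, ⁅a, k⁆⁆ = ((a * k) ^ 4)⁻¹ := by
    rw [e1, commutatorElement_def, inv_eq hD h.1]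
    have : a * (a * k) * a⁻¹ = (a * k)⁻¹ :=
      Involution.invol_conj_mul (sq hD h.1) (sq hD h.2.1)
    rw [inv_eq hD h.1] at this
    have h3 := conj_pow (i := 2) (a := a) (b := a * k)
    rw [inv_eq hD h.1, this] at h3
    rw [← h3, inv_pow, ← mul_inv_rev, ← pow_add]
  rw [e2, inv_mem_iff] at h2
  obtain ⟨j, hj⟩ := PCore.isPGroup_pCore ⟨_, h2⟩
  have hj' : ((a * k) ^ 4) ^ 2 ^ j = 1 := congrArg Subtype.val hj
  rw [← pow_mul, show (4 : ℕ) * 2 ^ j = 2 ^ (j + 2) by rw [pow_add]; ring] at hj'
  have h1 := eq_one_of_odd h.2.2.2 hj'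
  rw [mul_eq_one_iff_eq_inv, inv_eq hD h.2.1] at h1
  exact h.2.2.1 h1

end

end Cfsg.Agent.RootInv
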